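import Groth.Agent.Et18.SpecCrit.Transfer
import Groth.Agent.Et18.StrataNoetherian
import Groth.Agent.Et18.ConsColim
import Groth.Agent.Et18.Restr

/-!
# Constructibility and local constancy by specialization maps
-/

set_option autoImplicit false
set_option linter.all false
set_option backward.isDefEq.respectTransparency.types false
set_option backward.isDefEq.respectTransparency false

universe u

open CategoryTheory CategoryTheory.Limits AlgebraicGeometry Opposite Topology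

namespace Groth.Agent.Et18.SpecCrit

variable {X : Scheme.{u}}

/-- Local constancy near a point from isomorphy on an open of an etale neighbourhood. -/
theorem exists_flc_nhd {T : Scheme.{u}} (G : EtCoh.Ab T) (W : T.Etale) (M : AddCommGrpCat.{u + 1}) [Finite M]
    (ψ : (cst W.left).obj M ⟶ (EtCoh.pull W.hom).obj G) (O : W.left.Opens) (w : W.left) (hw : w ∈ O)
    (hO : ∀ z ∈ O, IsIso ((EtCoh.stalk (sepPoint W.left z)).map ψ)) :
    ∃ U : T.Opens, W.hom w ∈ U ∧ EtCoh.IsFiniteLocallyConstant ((EtCoh.pull U.ι).obj G) := by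
  haveI : Etale W.hom := W.prop
  have hiso : IsIso ((EtCoh.pull O.ι).map ψ) := isIso_of_stalks _ fun y => by
    refine (NatIso.isIso_map_iff (stalkPullIso O.ι (sepPoint O.toScheme y)) ψ).mpr ?_
    exact isIso_stalk_congr ψ (sepPoint W.left y.1) _
      ((sepPoint_default _ _).trans (congrArg O.ι (sepPoint_default _ y)).symm) (hO y.1 y.2)
  let U : T.Opens := ⟨W.hom '' (O : Set W.left), W.hom.isOpenMap _ O.2⟩
  refine ⟨U, ⟨w, hw, rfl⟩, isFLC_iff.mpr (LocTriv.of_nhds fun y => ?_)⟩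
  obtain ⟨z, hz, hzy⟩ := y.2
  have hsub : Set.range (O.ι ≫ W.hom) ⊆ Set.range U.ι := by
    rw [Scheme.Opens.range_ι]
    rintro _ ⟨t, rfl⟩
    exact ⟨t.1, t.2, rfl⟩
  let k := IsOpenImmersion.lift U.ι (O.ι ≫ W.hom) hsub
  have hk : k ≫ U.ι = O.ι ≫ W.hom := IsOpenImmersion.lift_fac _ _ _
  haveI : Etale (k ≫ U.ι) := hk ▸ inferInstance
  haveI : Etale k := Etale.of_comp k U.ι
  refine ⟨Scheme.Etale.mk k, ⟨z, hz⟩, U.ι.isOpenEmbedding.injective ?_, isFLC_iff.mp ?_⟩
  · exact (congrArg (fun t : O.toScheme ⟶ T => t ⟨z, hz⟩) hk).trans hzy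
  · haveI := hiso
    refine isFLC_of_iso (isFLC_cst (X := O.toScheme) M) ?_
    exact ((EtCore.pullConstIso O.ι).app M).symm ≪≫ asIso ((EtCoh.pull O.ι).map ψ) ≪≫
      ((EtCore.pullComp O.ι W.hom).app G).symm ≪≫ (EtCore.pullCongr hk.symm).app G ≪≫
      (EtCore.pullComp k U.ι).app G

/-- A geometric neighbourhood on which the stalk is given by sections. -/
theorem exists_chart (F : EtCoh.Ab X) {Ω : Type u} [Field Ω] [IsSepClosed Ω]
    (ξ : Spec (CommRingCat.of Ω) ⟶ X) [Finite ((EtCoh.stalk ξ).obj F)] :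
    ∃ (W : X.Etale) (u : Spec (CommRingCat.of Ω) ⟶ W.left),
      haveI : Etale W.hom := W.prop
      haveI : EtShriek.JCont W.hom := jCont W.hom
      u ≫ W.hom = ξ ∧ ∃ ψ : (cst W.left).obj ((EtCoh.stalk ξ).obj F) ⟶ (EtShriek.restrAlong W.hom).obj F,
        IsIso ((EtCoh.stalk u).map ψ) := by
  obtain ⟨W, u, ψ, hψ⟩ := exists_nhd_lift ξ (𝟙 ((EtCoh.stalk ξ).obj F))
  haveI : Etale W.hom := W.prop
  haveI : EtShriek.JCont W.hom := jCont W.hom
  refine ⟨W, u.1, u.2, ψ, ?_⟩
  haveI : IsIso (restrStalkMap W.hom ξ u F) :=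
    (ConcreteCategory.isIso_iff_bijective _).mpr (restrStalkMap_bijective W.hom ξ u F)
  haveI : IsIso ((EtCoh.stalk u.1).map ψ ≫ restrStalkMap W.hom ξ u F) := IsIso.of_isIso_fac_left hψ
  exact IsIso.of_isIso_comp_right _ (restrStalkMap W.hom ξ u F)

/-- A morphism into a restriction as one into an inverse image. -/
noncomputable abbrev toPull {W : X.Etale} [Etale W.hom] [EtShriek.JCont W.hom] {M : AddCommGrpCat.{u + 1}}
    {F : EtCoh.Ab X} (ψ : (cst W.left).obj M ⟶ (EtShriek.restrAlong W.hom).obj F) :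
    (cst W.left).obj M ⟶ (EtCoh.pull W.hom).obj F :=
  ψ ≫ (pullRestrIso W.hom).inv.app F

theorem isIso_stalk_toPull_iff {W : X.Etale} [Etale W.hom] [EtShriek.JCont W.hom] {M : AddCommGrpCat.{u + 1}}
    {F : EtCoh.Ab X} (ψ : (cst W.left).obj M ⟶ (EtShriek.restrAlong W.hom).obj F)
    {Ω : Type u} [Field Ω] [IsSepClosed Ω] (t : Spec (CommRingCat.of Ω) ⟶ W.left) :
    IsIso ((EtCoh.stalk t).map (toPull ψ)) ↔ IsIso ((EtCoh.stalk t).map ψ) := by
  rw [Functor.map_comp]
  refine ⟨fun h => ?_, fun h => inferInstance⟩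
  haveI := h
  exact IsIso.of_isIso_comp_right _ ((EtCoh.stalk t).map ((pullRestrIso W.hom).inv.app F))

theorem isIso_stalk_iff_supp {F G : EtCoh.Ab X} (a : F ⟶ G) {Ω : Type u} [Field Ω] [IsSepClosed Ω]
    (t : Spec (CommRingCat.of Ω) ⟶ X) (z : X) (hz : t default = z) :
    IsIso ((EtCoh.stalk t).map a) ↔ z ∉ EtPBC.supp (kernel a) ∪ EtPBC.supp (cokernel a) := by
  refine ⟨fun h => ?_, fun h => ?_⟩
  · haveI := h
    rintro (hk | hk) <;> refine (mem_supp_iff _ t hz).mp hk ?_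
    · exact (isZero_kernel_of_mono ((EtCoh.stalk t).map a)).of_iso (PreservesKernel.iso (EtCoh.stalk t) a)
    · exact (isZero_cokernel_of_epi ((EtCoh.stalk t).map a)).of_iso (PreservesCokernel.iso (EtCoh.stalk t) a)
  · rw [Set.mem_union, not_or] at h
    haveI : Mono ((EtCoh.stalk t).map a) := Preadditive.mono_of_isZero_kernel _
      ((isZero_stalk_of_not_mem_supp t (hz ▸ h.1)).of_iso (PreservesKernel.iso (EtCoh.stalk t) a).symm)
    haveI : Epi ((EtCoh.stalk t).map a) := Preadditive.epi_of_isZero_cokernel _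
      ((isZero_stalk_of_not_mem_supp t (hz ▸ h.2)).of_iso (PreservesCokernel.iso (EtCoh.stalk t) a).symm)
    exact isIso_of_mono_of_epi _

/-- Local constancy near a point makes the specializations into it isomorphisms. -/
theorem isIso_sp_of_flc {F : EtCoh.Ab X} {U : X.Opens}
    (hU : EtCoh.IsFiniteLocallyConstant ((EtCoh.pull U.ι).obj F))
    {Ω Ω' : Type u} [Field Ω] [IsSepClosed Ω] [Field Ω'] [IsSepClosed Ω']
    (ξ : Spec (CommRingCat.of Ω) ⟶ X) (ξ' : Spec (CommRingCat.of Ω') ⟶ X) (h : ξ default ∈ U)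
    (φ : Scheme.pointSmallEtale ξ' ⟶ Scheme.pointSmallEtale ξ) :
    IsIso ((GrothendieckTopology.Point.Hom.sheafFiber (A := AddCommGrpCat.{u + 1}) φ).app F) := by
  obtain ⟨V, y, A, hy, -, ⟨e⟩⟩ := isFLC_iff.mp hU ⟨ξ default, h⟩
  haveI : Etale V.hom := V.prop
  let W : X.Etale := Scheme.Etale.mk (V.hom ≫ U.ι)
  haveI : Etale W.hom := W.prop
  haveI : EtShriek.JCont W.hom := jCont W.hom
  obtain ⟨v, -⟩ := exists_fiber_point ξ W y (congrArg U.ι hy)
  let u : PointLift W.hom ξ := ⟨v.left, Over.w v⟩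
  let i : (cst W.left).obj A ≅ (EtShriek.restrAlong W.hom).obj F :=
    e.symm ≪≫ ((EtCore.pullComp V.hom U.ι).app F).symm ≪≫ (pullRestrIso W.hom).app F
  exact isIso_sp_of_stalks i.hom φ u inferInstance inferInstance

/-- For a constructible sheaf, bijective specializations into a point give local constancy near it. -/
theorem exists_flc_of_isIso_sp {F : EtCoh.Ab X} (hF : EtPBC.IsConstructible F)
    {Ω : Type u} [Field Ω] [IsSepClosed Ω] (ξ : Spec (CommRingCat.of Ω) ⟶ X)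
    (hsp : ∀ (Ω' : Type u) [Field Ω'] [IsSepClosed Ω'] (ξ' : Spec (CommRingCat.of Ω') ⟶ X)
      (φ : Scheme.pointSmallEtale ξ' ⟶ Scheme.pointSmallEtale ξ),
      IsIso ((GrothendieckTopology.Point.Hom.sheafFiber (A := AddCommGrpCat.{u + 1}) φ).app F)) :
    ∃ U : X.Opens, ξ default ∈ U ∧ EtCoh.IsFiniteLocallyConstant ((EtCoh.pull U.ι).obj F) := by
  haveI := finite_stalk_of_isConstructible hF ξ
  obtain ⟨W, u, hu, ψ, hψ⟩ := exists_chart F ξ
  haveI : Etale W.hom := W.prop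
  haveI : EtShriek.JCont W.hom := jCont W.hom
  let M := (EtCoh.stalk ξ).obj F
  have hgen : ∀ z : W.left, z ⤳ u default → IsIso ((EtCoh.stalk (sepPoint W.left z)).map ψ) := by
    subst hu
    intro z hz
    obtain ⟨Ω', _, _, ξ', φ, hφ⟩ := exists_sp W u hz
    exact isIso_stalk_congr ψ _ _ (hφ.trans (sepPoint_default _ z).symm)
      (isIso_stalk_spLift ψ φ ⟨u, rfl⟩ hψ (hsp Ω' ξ' φ))
  let ψ' := toPull ψ
  have hC := isConstructible_kernel_cokernel ψ' (isConstructible_of_isFLC (isFLC_cst M))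
    (isConstructible_pull W.hom hF)
  let Bad := EtPBC.supp (kernel ψ') ∪ EtPBC.supp (cokernel ψ')
  have hBad : IsLocallyConstructible Bad :=
    (isLocallyConstructible_supp hC.1).union (isLocallyConstructible_supp hC.2)
  have hgood : ∀ z : W.left, z ⤳ u default → z ∉ Bad := fun z hz =>
    (isIso_stalk_iff_supp ψ' _ z (sepPoint_default _ z)).mp ((isIso_stalk_toPull_iff ψ _).mpr (hgen z hz))
  obtain ⟨V, hV, hwV, -⟩ := exists_isAffineOpen_mem_and_subset (X := W.left) (x := u default) (U := ⊤) trivial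
  haveI : IsAffine V.toScheme := hV
  let w₁ : V.toScheme := ⟨u default, hwV⟩
  have hcl : w₁ ∉ closure (V.ι ⁻¹' Bad) := fun h => by
    obtain ⟨y, hy, hyw⟩ := exists_specializes_of_mem_closure (H8Lim.isLocallyConstructible_preimage V.ι hBad) h
    exact hgood (V.ι y) (hyw.map V.ι.continuous) hy
  let O : W.left.Opens := V.ι ''ᵁ ⟨(closure (V.ι ⁻¹' Bad))ᶜ, isClosed_closure.isOpen_compl⟩
  obtain ⟨U, hU, hflc⟩ := exists_flc_nhd F W M ψ' O (u default) ⟨w₁, hcl, rfl⟩ (by
    rintro _ ⟨z, hz, rfl⟩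
    exact (isIso_stalk_iff_supp ψ' _ _ (sepPoint_default _ _)).mpr fun hb => hz (subset_closure hb))
  refine ⟨U, ?_, hflc⟩
  rw [← hu]
  exact hU

/-- Injective specializations and finite stalks give constructibility. -/
theorem isConstructible_of_mono_sp [IsLocallyNoetherian X] {F : EtCoh.Ab X}
    (hfin : ∀ (Ω : Type u) [Field Ω] [IsSepClosed Ω] (ξ : Spec (CommRingCat.of Ω) ⟶ X),
      Finite ((EtCoh.stalk ξ).obj F))
    (hmono : ∀ (Ω Ω' : Type u) [Field Ω] [IsSepClosed Ω] [Field Ω'] [IsSepClosed Ω']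
        (ξ : Spec (CommRingCat.of Ω) ⟶ X) (ξ' : Spec (CommRingCat.of Ω') ⟶ X)
        (φ : Scheme.pointSmallEtale ξ' ⟶ Scheme.pointSmallEtale ξ),
        Mono ((GrothendieckTopology.Point.Hom.sheafFiber (A := AddCommGrpCat.{u + 1}) φ).app F)) :
    EtPBC.IsConstructible F := by
  refine isConstructible_of_forall_point fun x => ?_
  obtain ⟨T, g, hg, hr⟩ := exists_immersion_closure (⊤ : X.Opens) x
  haveI : IsLocallyNoetherian T := LocallyOfFiniteType.isLocallyNoetherian g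
  obtain ⟨η, hη⟩ : x ∈ Set.range g := hr ▸ ⟨trivial, subset_closure rfl⟩
  have hgen : ∀ t : T, η ⤳ t := fun t => by
    refine g.isEmbedding.isInducing.specializes_iff.mp ?_
    rw [hη]
    exact specializes_iff_mem_closure.mpr ((hr ▸ Set.mem_range_self t :
      g t ∈ ((⊤ : X.Opens) : Set X) ∩ closure {x}).2)
  haveI := hfin _ (sepPoint X x)
  obtain ⟨W, u, hu, ψ, hψ⟩ := exists_chart F (sepPoint X x)
  haveI : Etale W.hom := W.prop
  haveI : EtShriek.JCont W.hom := jCont W.hom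
  let M := (EtCoh.stalk (sepPoint X x)).obj F
  have hspec : ∀ z : W.left, u default ⤳ z → IsIso ((EtCoh.stalk (sepPoint W.left z)).map ψ) := by
    intro z hz
    obtain ⟨Ω', _, _, ξ', φ, hφ⟩ := exists_sp W (sepPoint W.left z)
      (z := u default) (by rw [sepPoint_default]; exact hz)
    exact isIso_stalk_of_mono ψ φ ⟨sepPoint W.left z, rfl⟩ (isIso_stalk_congr ψ u _ hφ.symm hψ)
      (hmono _ _ _ ξ' φ)
  let WT : T.Etale := (EtCoh.bc g).obj W
  haveI : Etale WT.hom := WT.prop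
  let q : WT.left ⟶ W.left := pullback.fst W.hom g
  obtain ⟨wT, hwT, hwη⟩ := Scheme.Pullback.exists_preimage_pullback (f := W.hom) (g := g) (u default) η (by
    exact ((congrArg (fun k : Spec (CommRingCat.of (SeparableClosure (X.residueField x))) ⟶ X => k default) hu).trans
      (sepPoint_default X x)).trans hη.symm)
  obtain ⟨O, hwO, hO⟩ := exists_generic_nhd η hgen WT wT hwη
  let j : (EtCoh.pull q).obj ((EtCoh.pull W.hom).obj F) ≅ (EtCoh.pull WT.hom).obj ((EtCoh.pull g).obj F) :=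
    ((EtCore.pullComp q W.hom).app F).symm ≪≫ (EtCore.pullCongr pullback.condition).app F ≪≫
      (EtCore.pullComp _ _).app F
  let ψT : (cst WT.left).obj M ⟶ (EtCoh.pull WT.hom).obj ((EtCoh.pull g).obj F) :=
    ((EtCore.pullConstIso q).app M).inv ≫ (EtCoh.pull q).map (toPull ψ) ≫ j.hom
  obtain ⟨U, hU, hflc⟩ := exists_flc_nhd ((EtCoh.pull g).obj F) WT M ψT O wT hwO (fun z hz => by
    haveI : IsIso ((EtCoh.stalk (sepPoint WT.left z)).map ((EtCoh.pull q).map (toPull ψ))) :=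
      (NatIso.isIso_map_iff (stalkPullIso q (sepPoint WT.left z)) (toPull ψ)).mpr
        ((isIso_stalk_toPull_iff ψ _).mpr (isIso_stalk_congr ψ _ _
          ((sepPoint_default _ _).trans (congrArg q (sepPoint_default _ z)).symm)
          (hspec (q z) (hwT ▸ (hO z hz).map q.continuous))))
    rw [Functor.map_comp, Functor.map_comp]
    infer_instance)
  exact ⟨U.toScheme, U.ι ≫ g, inferInstance, ⟨⟨η, hwη ▸ hU⟩, hη⟩,
    isFLC_of_iso hflc ((EtCore.pullComp U.ι g).app F).symm⟩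

/-- Global local constancy from local. -/
theorem isFLC_of_forall_nhd {F : EtCoh.Ab X}
    (h : ∀ x : X, ∃ U : X.Opens, x ∈ U ∧ EtCoh.IsFiniteLocallyConstant ((EtCoh.pull U.ι).obj F)) :
    EtCoh.IsFiniteLocallyConstant F := by
  refine isFLC_iff.mpr (LocTriv.of_nhds fun x => ?_)
  obtain ⟨U, hx, hU⟩ := h x
  exact ⟨Scheme.Etale.mk U.ι, ⟨x, hx⟩, rfl, isFLC_iff.mp hU⟩

end Groth.Agent.Et18.SpecCrit
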