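import Groth.Agent.Et18.GenericFLC
import Groth.Agent.Et18.Mod.Cospec
import Groth.Agent.Et18.Specialization
import Groth.Agent.HenselLib.LocalHens

/-!
# Specialization maps of stalks and morphisms out of constant sheaves
-/

set_option autoImplicit false
set_option linter.all false
set_option backward.isDefEq.respectTransparency.types false
set_option backward.isDefEq.respectTransparency false

universe u

open CategoryTheory CategoryTheory.Limits AlgebraicGeometry Opposite IsLocalRing

namespace Groth.Agent.Et18.SpecCrit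

variable {X : Scheme.{u}}

section Points

variable (W : X.Etale) {Ω : Type u} [Field Ω] [IsSepClosed Ω]

/-- The object `W` itself, as an etale scheme over `X`. -/
noncomputable abbrev selfObj [Etale W.hom] : X.Etale :=
  (EtShriek.compEtale W.hom).obj (EtCoh.top W.left)

/-- Any point of the fibre over `W` gives a lift. -/
noncomputable def liftOf [Etale W.hom] {ξ : Spec (CommRingCat.of Ω) ⟶ X}
    (v : (Scheme.pointSmallEtale ξ).fiber.obj (selfObj W)) : PointLift W.hom ξ :=
  ⟨v.left, (congrArg (fun t => (v.left : _ ⟶ W.left) ≫ t) (Category.id_comp W.hom).symm).trans (Over.w v)⟩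

/-- A lift gives a point of the fibre over `W`. -/
noncomputable def pointOf [Etale W.hom] {ξ : Spec (CommRingCat.of Ω) ⟶ X} (u : PointLift W.hom ξ) :
    (Scheme.pointSmallEtale ξ).fiber.obj (selfObj W) :=
  fiberIncl u (topPt u.1)

theorem pointOf_liftOf [Etale W.hom] {ξ : Spec (CommRingCat.of Ω) ⟶ X}
    (v : (Scheme.pointSmallEtale ξ).fiber.obj (selfObj W)) : pointOf W (liftOf W v) = v :=
  Over.OverMorphism.ext rfl

end Points

section Transfer

variable {W : X.Etale} [Etale W.hom] [EtShriek.JCont W.hom] {M : AddCommGrpCat.{u + 1}} {F : EtCoh.Ab X}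
  (ψ : (cst W.left).obj M ⟶ (EtShriek.restrAlong W.hom).obj F)

/-- The sections defining `ψ`. -/
noncomputable def secs : M ⟶ F.obj.obj (op (selfObj W)) :=
  cstSec M (EtCoh.top W.left) ≫ ψ.hom.app (op (EtCoh.top W.left))

variable {Ω : Type u} [Field Ω] [IsSepClosed Ω] {ξ : Spec (CommRingCat.of Ω) ⟶ X}

theorem germ_secs (u : PointLift W.hom ξ) :
    cstGerm u.1 M ≫ (EtCoh.stalk u.1).map ψ ≫ restrStalkMap W.hom ξ u F =
      secs ψ ≫ (Scheme.pointSmallEtale ξ).toPresheafFiber (selfObj W) (pointOf W u) F.obj := by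
  let t := topPt (X := W.left) u.1
  have e₁ : (Scheme.pointSmallEtale u.1).toPresheafFiber (EtCoh.top W.left) t _ ≫
      (EtCoh.stalk u.1).map ψ = ψ.hom.app _ ≫
        (Scheme.pointSmallEtale u.1).toPresheafFiber (EtCoh.top W.left) t
          ((EtShriek.restrAlong W.hom).obj F).obj :=
    (Scheme.pointSmallEtale u.1).toPresheafFiber_naturality ψ.hom _ t
  rw [cstGerm]
  refine (Category.assoc _ _ _).trans ((congrArg (fun z => cstSec M _ ≫ z)
    ((reassoc_of% e₁) (restrStalkMap W.hom ξ u F))).trans ?_)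
  unfold secs
  rw [Category.assoc]
  exact congrArg (fun z => cstSec M _ ≫ ψ.hom.app _ ≫ z)
    (germ_restrStalkMap W.hom ξ u F (EtCoh.top W.left) t)

theorem isIso_stalk_iff_germs (u : PointLift W.hom ξ) :
    IsIso ((EtCoh.stalk u.1).map ψ) ↔
      IsIso (secs ψ ≫ (Scheme.pointSmallEtale ξ).toPresheafFiber (selfObj W) (pointOf W u) F.obj) := by
  rw [← germ_secs ψ u]
  haveI : IsIso (restrStalkMap W.hom ξ u F) :=
    (ConcreteCategory.isIso_iff_bijective _).mpr (restrStalkMap_bijective W.hom ξ u F)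
  refine ⟨fun h => inferInstance, fun h => ?_⟩
  haveI := h
  haveI : IsIso ((EtCoh.stalk u.1).map ψ ≫ restrStalkMap W.hom ξ u F) :=
    IsIso.of_isIso_comp_left (cstGerm u.1 M) _
  exact IsIso.of_isIso_comp_right _ (restrStalkMap W.hom ξ u F)

variable {Ω' : Type u} [Field Ω'] [IsSepClosed Ω'] {ξ' : Spec (CommRingCat.of Ω') ⟶ X}
  (φ : Scheme.pointSmallEtale ξ' ⟶ Scheme.pointSmallEtale ξ) (u : PointLift W.hom ξ)

/-- The image of a lift under a morphism of points. -/
noncomputable def spLift : PointLift W.hom ξ' :=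
  liftOf W (φ.hom.app (selfObj W) (pointOf W u))

theorem germ_spLift :
    secs ψ ≫ (Scheme.pointSmallEtale ξ).toPresheafFiber (selfObj W) (pointOf W u) F.obj ≫
        (GrothendieckTopology.Point.Hom.sheafFiber (A := AddCommGrpCat.{u + 1}) φ).app F =
      secs ψ ≫ (Scheme.pointSmallEtale ξ').toPresheafFiber (selfObj W) (pointOf W (spLift φ u)) F.obj := by
  refine congrArg (fun t => secs ψ ≫ t) ?_
  rw [spLift, pointOf_liftOf]
  exact GrothendieckTopology.Point.toPresheafFiber_presheafFiberDesc (A := AddCommGrpCat.{u + 1}) _ _ _ _ _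

theorem isIso_stalk_spLift (h : IsIso ((EtCoh.stalk u.1).map ψ))
    (hs : IsIso ((GrothendieckTopology.Point.Hom.sheafFiber (A := AddCommGrpCat.{u + 1}) φ).app F)) :
    IsIso ((EtCoh.stalk (spLift φ u).1).map ψ) := by
  rw [isIso_stalk_iff_germs ψ] at h ⊢
  haveI := h
  haveI := hs
  rw [← germ_spLift ψ φ u, ← Category.assoc]
  infer_instance

theorem isIso_sp_of_stalks (h : IsIso ((EtCoh.stalk u.1).map ψ))
    (h' : IsIso ((EtCoh.stalk (spLift φ u).1).map ψ)) :
    IsIso ((GrothendieckTopology.Point.Hom.sheafFiber (A := AddCommGrpCat.{u + 1}) φ).app F) := by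
  rw [isIso_stalk_iff_germs ψ] at h h'
  haveI := h
  haveI := h'
  haveI : IsIso ((secs ψ ≫ (Scheme.pointSmallEtale ξ).toPresheafFiber (selfObj W) (pointOf W u) F.obj) ≫
      (GrothendieckTopology.Point.Hom.sheafFiber (A := AddCommGrpCat.{u + 1}) φ).app F) := by
    rw [Category.assoc, germ_spLift ψ φ u]; exact h'
  exact IsIso.of_isIso_comp_left
    (secs ψ ≫ (Scheme.pointSmallEtale ξ).toPresheafFiber (selfObj W) (pointOf W u) F.obj) _

/-- With injective specialization, bijectivity passes to the special point. -/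
theorem isIso_stalk_of_mono (h' : IsIso ((EtCoh.stalk (spLift φ u).1).map ψ))
    (hs : Mono ((GrothendieckTopology.Point.Hom.sheafFiber (A := AddCommGrpCat.{u + 1}) φ).app F)) :
    IsIso ((EtCoh.stalk u.1).map ψ) := by
  rw [isIso_stalk_iff_germs ψ] at h' ⊢
  let a := secs ψ ≫ (Scheme.pointSmallEtale ξ).toPresheafFiber (selfObj W) (pointOf W u) F.obj
  let s := (GrothendieckTopology.Point.Hom.sheafFiber (A := AddCommGrpCat.{u + 1}) φ).app F
  haveI : Mono s := hs
  haveI := h'
  have he : a ≫ s = secs ψ ≫ (Scheme.pointSmallEtale ξ').toPresheafFiber (selfObj W) (pointOf W (spLift φ u)) F.obj :=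
    (Category.assoc _ _ _).trans (germ_spLift ψ φ u)
  haveI : IsIso (a ≫ s) := he ▸ h'
  haveI : IsSplitEpi s := IsSplitEpi.mk' ⟨inv (a ≫ s) ≫ a, by rw [Category.assoc, IsIso.inv_hom_id]⟩
  haveI : IsIso s := isIso_of_mono_of_isSplitEpi s
  exact IsIso.of_isIso_comp_right a s

end Transfer

/-- Isomorphy on the stalk does not depend on the geometric point. -/
theorem isIso_stalk_congr {F G : EtCoh.Ab X} (a : F ⟶ G) {Ω Ω' : Type u} [Field Ω] [IsSepClosed Ω]
    [Field Ω'] [IsSepClosed Ω'] (ξ : Spec (CommRingCat.of Ω) ⟶ X) (ξ' : Spec (CommRingCat.of Ω') ⟶ X)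
    (h : ξ default = ξ' default) (hi : IsIso ((EtCoh.stalk ξ).map a)) : IsIso ((EtCoh.stalk ξ').map a) := by
  generalize hx : ξ default = x at h
  obtain ⟨σ, rfl⟩ := exists_fac_sepPoint ξ x hx
  obtain ⟨σ', rfl⟩ := exists_fac_sepPoint ξ' x h.symm
  exact (NatIso.isIso_map_iff (sheafFiberIsoOfIso (extendPointIso σ' _)) a).mpr
    ((NatIso.isIso_map_iff (sheafFiberIsoOfIso (extendPointIso σ _)) a).mp hi)

/-- An extension of geometric points, as a morphism of points. -/
noncomputable def extendPt {K L : Type u} [Field K] [IsSepClosed K] [Field L] [IsSepClosed L]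
    (σ : Spec (CommRingCat.of L) ⟶ Spec (CommRingCat.of K)) (s : Spec (CommRingCat.of K) ⟶ X)
    (t : Spec (CommRingCat.of L) ⟶ X) (h : σ ≫ s = t) :
    Scheme.pointSmallEtale t ⟶ Scheme.pointSmallEtale s :=
  ⟨{ app := fun U => TypeCat.ofHom fun v => Over.homMk (σ ≫ v.left)
        ((Category.assoc _ _ _).trans ((congrArg (fun q => σ ≫ q) (Over.w v)).trans h))
     naturality := fun U V g => by
      ext v
      exact Over.OverMorphism.ext (Category.assoc _ _ _).symm }⟩

theorem isIso_extendPt {K L : Type u} [Field K] [IsSepClosed K] [Field L] [IsSepClosed L]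
    (σ : Spec (CommRingCat.of L) ⟶ Spec (CommRingCat.of K)) (s : Spec (CommRingCat.of K) ⟶ X)
    (t : Spec (CommRingCat.of L) ⟶ X) (h : σ ≫ s = t) : IsIso (extendPt σ s t h) := by
  subst h
  exact inferInstanceAs (IsIso (extendPointIso σ s).hom)

/-- Generizations give morphisms of points. -/
theorem exists_sp (W : X.Etale) [Etale W.hom] {Ω : Type u} [Field Ω] [IsSepClosed Ω]
    (u : Spec (CommRingCat.of Ω) ⟶ W.left) {z : W.left} (hz : z ⤳ u default) :
    ∃ (Ω' : Type u) (_ : Field Ω') (_ : IsSepClosed Ω') (ξ' : Spec (CommRingCat.of Ω') ⟶ X)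
      (φ : Scheme.pointSmallEtale ξ' ⟶ Scheme.pointSmallEtale (u ≫ W.hom)),
      (spLift (W := W) φ ⟨u, rfl⟩).1 default = z := by
  let w := u default
  let O := W.left.presheaf.stalk w
  let R := HenselLib.LocalSH O
  haveI : Hensel.IsStrictHenselization O R := HenselLib.isStrictHenselization_localSH
  haveI : IsSepClosed (ResidueField R) := (inferInstance : Hensel.IsStrictHenselization O R).isSepClosure.sep_closed
  let K := SeparableClosure (W.left.residueField z)
  -- a point of the strict henselization over `z`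
  obtain ⟨U, hU, hwU, -⟩ := exists_isAffineOpen_mem_and_subset (X := W.left) (x := w) (U := ⊤) trivial
  let A : Type u := Γ(W.left, U)
  let : Algebra A O := TopCat.Presheaf.algebra_section_stalk W.left.presheaf ⟨w, hwU⟩
  have : IsLocalization.AtPrime O (hU.primeIdealOf ⟨w, hwU⟩).asIdeal := hU.isLocalization_stalk ⟨w, hwU⟩
  let : Algebra A R := ((algebraMap O R).comp (algebraMap A _)).toAlgebra
  have : IsScalarTower A O R := IsScalarTower.of_algebraMap_eq fun _ => rfl
  obtain ⟨e, -⟩ := SHull.exists_equiv (A := A) (R := R) O (hU.primeIdealOf ⟨w, hwU⟩).asIdeal.primeCompl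
  let f : O →+* K := (algebraMap (W.left.residueField z) K).comp
    ((W.left.residue z).hom.comp (W.left.presheaf.stalkSpecializes hz).hom)
  letI : Algebra O K := f.toAlgebra
  obtain ⟨τ⟩ := Specialization.exists_point (O := O) e (hU.primeIdealOf ⟨w, hwU⟩).asIdeal.primeCompl K
  let γ : Spec (CommRingCat.of K) ⟶ Spec (CommRingCat.of R) := Spec.map (CommRingCat.ofHom τ.toRingHom)
  let sW : Spec (CommRingCat.of R) ⟶ W.left := Hens2.specOf W.left w R
  have hγ : (γ ≫ sW) default = z := by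
    have e1 : γ ≫ sW = Spec.map (CommRingCat.ofHom (algebraMap (W.left.residueField z) K)) ≫
        Spec.map (W.left.residue z) ≫ W.left.fromSpecStalk z := by
      rw [← Scheme.SpecMap_stalkSpecializes_fromSpecStalk hz]
      show γ ≫ Spec.map (CommRingCat.ofHom (algebraMap O R)) ≫ W.left.fromSpecStalk w = _
      rw [← Spec.map_comp_assoc, ← Spec.map_comp_assoc, ← Spec.map_comp_assoc]
      exact congrArg (fun q => Spec.map q ≫ W.left.fromSpecStalk w)
        (CommRingCat.hom_ext (RingHom.ext fun o => τ.commutes o))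
    rw [e1]
    exact W.left.fromSpecResidueField_apply z
      (Spec.map (CommRingCat.ofHom (algebraMap (W.left.residueField z) K)) default)
  let ρ : ResidueField R →+* ResidueField R := RingHom.id _
  let c₀ : Spec (CommRingCat.of (ResidueField R)) ⟶ W.left := H0Lift.cPt ρ ≫ sW
  have hc₀ : c₀ default = w :=
    (congrArg sW (H0Lift.cPt_default ρ)).trans (Specialization.specOf_closedPoint R)
  obtain ⟨σ, hσ⟩ := exists_fac_sepPoint u w rfl
  obtain ⟨σ', hσ'⟩ := exists_fac_sepPoint c₀ w hc₀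
  let s₀ := sepPoint W.left w
  let s := s₀ ≫ W.hom
  let sH := sW ≫ W.hom
  have e2 : σ' ≫ s = H0Lift.cPt ρ ≫ sH := by
    show σ' ≫ s₀ ≫ W.hom = H0Lift.cPt ρ ≫ sW ≫ W.hom
    rw [← Category.assoc, hσ']
    exact Category.assoc _ _ _
  have e3 : σ ≫ s = u ≫ W.hom := (Category.assoc _ _ _).symm.trans (congrArg (· ≫ W.hom) hσ)
  let E := extendPt σ s (u ≫ W.hom) e3
  let E' := extendPt σ' s (H0Lift.cPt ρ ≫ sH) e2
  haveI : IsIso E := isIso_extendPt σ s _ e3
  let φ : Scheme.pointSmallEtale (γ ≫ sH) ⟶ Scheme.pointSmallEtale (u ≫ W.hom) :=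
    Mod.cospecPt ρ γ sH ≫ E' ≫ inv E
  refine ⟨K, inferInstance, inferInstance, γ ≫ sH, φ, ?_⟩
  let x₀ := pointOf W (⟨s₀, rfl⟩ : PointLift W.hom s)
  have h1 : E.hom.app (selfObj W) x₀ = pointOf W (⟨u, rfl⟩ : PointLift W.hom (u ≫ W.hom)) :=
    Over.OverMorphism.ext hσ
  have h2 : (inv E).hom.app (selfObj W) (pointOf W (⟨u, rfl⟩ : PointLift W.hom (u ≫ W.hom))) = x₀ := by
    rw [← h1]
    exact congrArg (fun q : Scheme.pointSmallEtale s ⟶ Scheme.pointSmallEtale s => q.hom.app (selfObj W) x₀)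
      (IsIso.inv_hom_id E)
  have h3 : φ.hom.app (selfObj W) (pointOf W (⟨u, rfl⟩ : PointLift W.hom (u ≫ W.hom))) =
      (Mod.cospecPt ρ γ sH).hom.app (selfObj W) (E'.hom.app (selfObj W) x₀) :=
    congrArg (fun y => (Mod.cospecPt ρ γ sH).hom.app (selfObj W) (E'.hom.app (selfObj W) y)) h2
  have h4 : Mod.sigOf ρ sH (E'.hom.app (selfObj W) x₀) = sW :=
    Mod.sigOf_eq ρ sH _ sW (congrArg (fun t => sW ≫ t) (Category.id_comp W.hom)) hσ'.symm
  let y : Spec (CommRingCat.of K) ⟶ W.left := (φ.hom.app (selfObj W)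
    (pointOf W (⟨u, rfl⟩ : PointLift W.hom (u ≫ W.hom)))).left
  have hy : y = γ ≫ Mod.sigOf ρ sH (E'.hom.app (selfObj W) x₀) := congrArg (fun q => q.left) h3
  show y default = z
  rw [hy, h4]
  exact hγ

end Groth.Agent.Et18.SpecCrit
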